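import Mathlib
import Cfsg.Agent.Lib.Gold.Tools
import Cfsg.Agent.Lib.Gold.BT4

/-! Consequences of `BType`, `AType`, `GT` (plans/GOLD.md, BT): see the files `BT0` to `BT4`. -/
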